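import Groth.Agent.ResProp.EF.K226.MatEnd
import Groth.Agent.ResProp.EF.K90.MatG

/-!
# G5 (B5), half (d), the seam with `K90.matG` and `K649.MRep`

`isMatCo_matG`; `mrepOf T b : MRep E`; `kapG` : `(matG T M) ⊗ End T' → matG (T.mul (mrepOf T' b)) M` is a comodule map;
`x ⊗ 1` goes to `theta`.
-/

set_option autoImplicit false

universe u

open TensorProduct HopfRep Matrix WithConv

noncomputable section

namespace Groth.Agent.ResProp.EF.K226

open Groth.Agent.ResProp.EF.Grp Groth.Agent.ResProp.EF.K192 Groth.Agent.ResProp.EF.K104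
  Groth.Agent.ResProp.EF.K208

attribute [local instance] K208.convGrp

variable {k : Type u} [CommRing k] {E : Gp k}

theorem rho_inv_val (T : K649.MRep E) {B : Type u} [CommRing B] [Algebra k B] (g : (pts E).pt B) :
    (((T.rho B g)⁻¹ : (Matrix T.I T.I B)ˣ) : Matrix T.I T.I B) =
      (smat (k := k) T.R).map ((g : WithConv (E.O →ₐ[k] B)).ofConv) := by
  rw [← map_inv, K649.MRep.rho_val]
  rfl

theorem rmul_eq (V B : Type u) [AddCommGroup V] [Module k V] [CommRing B] [Algebra k B] (b : B)
    (x : V ⊗[k] B) : K649.rmul V b x = K192.rmul k V B (x ⊗ₜ b) := by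
  induction x using TensorProduct.induction_on with
  | zero => simp
  | tmul v c => simp
  | add x y hx hy => simp only [map_add, add_tmul, hx, hy]

/-- the coaction of `matG` is `X ↦ R (ρ X) S(R)` -/
theorem isMatCo_matPt (T : K649.MRep E) (M : GMod E) : IsMatCo M T.R (K90.matPt T M).comod := by
  intro X i j
  refine (show _ = K90.mIso M.V E.O (K90.sig T M E.O (AlgHom.id k E.O) (X ⊗ₜ 1)) i j from rfl).trans ?_
  rw [K90.mIso_sig, K90.actL_apply, K649.conjM_apply]
  refine Finset.sum_congr rfl fun p _ => Finset.sum_congr rfl fun q _ => ?_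
  rw [rho_inv_val, K649.MRep.rho_val, rmul_eq, Matrix.map_apply, K90.mIso_tmul]
  have h : actM M.co.coact (mkPt E (AlgHom.id k E.O)) (X p q ⊗ₜ[k] (1 : E.O)) = M.co.coact (X p q) := by
    rw [K208.actM_tmul, K208.mulB_one]
    change (LinearMap.lTensor M.V (AlgHom.id k E.O).toLinearMap) (M.co.coact (X p q)) = _
    rw [AlgHom.toLinearMap_id, LinearMap.lTensor_id, LinearMap.id_apply]
  rw [h]
  rfl

theorem isMatCo_matG (T : K649.MRep E) (M : GMod E) : IsMatCo M T.R (K90.matG T M).co :=
  isMatCo_matPt T M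

/-- the matrix representation of a lattice with a basis -/
def mrepOf (T : GMod E) {I' : Type} [Fintype I'] [DecidableEq I'] [Nonempty I'] (b : Module.Basis I' k T.V) :
    K649.MRep E where
  I := I'
  R := rmat T b
  comul_R i j := K90.comul_rmat b i j
  counit_R i j := K90.counit_rmat b i j

/-- a comodule map `(matG T M) ⊗ End T' → matG (T ⊗ T') M` -/
def kapG (T : K649.MRep E) (M : GMod E) (T' : GMod E) {I' : Type} [Fintype I'] [DecidableEq I'] [Nonempty I']
    (b : Module.Basis I' k T'.V) (e : EndStr T') :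
    ((K90.matG T M).tens e.mod).V →ₗ[k] (K90.matG (T.mul (mrepOf T' b)) M).V :=
  kap M T' b (I := T.I)

theorem kapG_hom (T : K649.MRep E) (M : GMod E) (T' : GMod E) {I' : Type} [Fintype I'] [DecidableEq I']
    [Nonempty I'] (b : Module.Basis I' k T'.V) (e : EndStr T') :
    @Hoch.IsComodHom k _ E.O _ _ _ ((K90.matG T M).tens e.mod).V _ _ ((K90.matG T M).tens e.mod).co
      (K90.matG (T.mul (mrepOf T' b)) M).V _ _ (K90.matG (T.mul (mrepOf T' b)) M).co (kapG T M T' b e) :=
  kap_hom M T' b e T.R (K90.matPt T M).comod (isMatCo_matPt T M) (T.mul (mrepOf T' b)).R (fun _ _ => rfl)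
    (K90.matPt (T.mul (mrepOf T' b)) M).comod (isMatCo_matPt _ M)

/-- `x ⊗ 1` on `B`-points, entries -/
theorem kap_one_pt (M : GMod E) {I I' : Type} [Fintype I] [DecidableEq I] [Fintype I'] [DecidableEq I']
    (T' : GMod E) (b : Module.Basis I' k T'.V) (B : Type u) [CommRing B] [Algebra k B]
    (x : Matrix I I M.V ⊗[k] B) (i j : I × I') :
    K90.mIso M.V B (((kap M T' b) ∘ₗ (TensorProduct.mk k (Matrix I I M.V) (Module.End k T'.V)).flip 1).rTensor B x)
      i j = if i.2 = j.2 then K90.mIso M.V B x i.1 j.1 else 0 := by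
  induction x using TensorProduct.induction_on with
  | zero => simp
  | tmul X c =>
    rw [LinearMap.rTensor_tmul, K90.mIso_tmul, K90.mIso_tmul]
    have h := kap_one M T' b X i j
    refine (congrArg (fun m => m ⊗ₜ[k] c) h).trans ?_
    change (if i.2 = j.2 then X i.1 j.1 else 0) ⊗ₜ[k] c = _
    split_ifs
    · rfl
    · rw [zero_tmul]
  | add x y hx hy =>
    rw [map_add, map_add, Matrix.add_apply, hx, hy, map_add, Matrix.add_apply]
    split_ifs
    · rfl
    · rw [add_zero]

/-- `x ⊗ 1` goes to `theta x`, on `B`-points -/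
theorem kapG_one (T : K649.MRep E) (M : GMod E) (T' : GMod E) {I' : Type} [Fintype I'] [DecidableEq I']
    [Nonempty I'] (b : Module.Basis I' k T'.V) (e : EndStr T') (B : Type u) [CommRing B] [Algebra k B]
    (x : (K90.matG T M).V ⊗[k] B) :
    (K649.theta T (mrepOf T' b) M).app B (K90.mIso M.V B x) =
      K90.mIso M.V B (((kapG T M T' b e) ∘ₗ tmulR (K90.matG T M) e.mod 1).rTensor B x) :=
  Matrix.ext (m := T.I × I') (n := T.I × I') fun i j =>
    (K649.theta_apply T (mrepOf T' b) M B _ i j).trans (kap_one_pt M T' b B x i j).symm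

end Groth.Agent.ResProp.EF.K226
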