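import Groth.Agent.ResProp.EF.K192.End
import Groth.Agent.ResProp.EF.K90.RMat
import Groth.Agent.ResProp.EF.K208.Pts
import Mathlib.LinearAlgebra.Matrix.ToLin
import Mathlib.LinearAlgebra.Matrix.Kronecker

/-!
# G5 (B5), half (d): `End T` in matrices and `Matrix I I M ⊗ End T' → Matrix (I × I') (I × I') M`

`T` an `E`-module with a finite basis `b`, `R = K90.rmat b : Matrix I I O(E)`.  For an `EndStr e` of `T` the matrix of
`e.co.coact φ` is `R [φ] S(R)`.  `IsMatCo M R c`: the comodule structure `c` on `Matrix I I M` is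
`X ↦ R (ρ X) S(R)`.  `kap_hom`: `X ⊗ φ ↦ X ⊗ₖ [φ]` is a comodule map.
-/

set_option autoImplicit false

universe u w w'

open TensorProduct HopfRep Matrix

noncomputable section

namespace Groth.Agent.ResProp.EF.K226

open Groth.Agent.ResProp.EF.Grp Groth.Agent.ResProp.EF.K192

section RMat

variable {k : Type u} [CommRing k] {E : Gp k} (T : GMod E) {I : Type w} [Fintype I] [DecidableEq I]
  (b : Module.Basis I k T.V)

/-- the matrix of the coaction -/
abbrev rmat : Matrix I I E.O := K90.rmat (A := E.O) b

/-- `S(R)` -/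
abbrev smat (R : Matrix I I E.O) : Matrix I I E.O := R.map (HopfAlgebra.antipode k)

theorem rmat_mul_antipode : rmat T b * smat (k := k) (rmat T b) = 1 := by
  ext i j
  have h := HopfAlgebra.mul_antipode_lTensor_comul_apply (R := k) (rmat T b i j)
  rw [K90.comul_rmat, map_sum, map_sum] at h
  simp only [LinearMap.lTensor_tmul, LinearMap.mul'_apply] at h
  rw [Matrix.mul_apply]
  simp only [Matrix.map_apply]
  rw [h, K90.counit_rmat]
  by_cases hij : i = j
  · subst hij; simp
  · simp [Matrix.one_apply_ne hij]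

theorem antipode_mul_rmat : smat (k := k) (rmat T b) * rmat T b = 1 := by
  ext i j
  have h := HopfAlgebra.mul_antipode_rTensor_comul_apply (R := k) (rmat T b i j)
  rw [K90.comul_rmat, map_sum, map_sum] at h
  simp only [LinearMap.rTensor_tmul, LinearMap.mul'_apply] at h
  rw [Matrix.mul_apply]
  simp only [Matrix.map_apply]
  rw [h, K90.counit_rmat]
  by_cases hij : i = j
  · subst hij; simp
  · simp [Matrix.one_apply_ne hij]

/-- coordinates of the coaction of any vector -/
theorem crd_coact (v : T.V) (i : I) :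
    K90.crd b E.O i (T.co.coact v) = ∑ j, algebraMap k E.O (b.repr v j) * rmat T b i j := by
  conv_lhs => rw [← b.sum_repr v]
  simp only [map_sum, map_smul, Algebra.smul_def]
  rfl

/-- the matrix of an element of `End T ⊗ A` -/
def mx (A : Type u) [CommRing A] [Algebra k A] : Module.End k T.V ⊗[k] A →ₗ[k] Matrix I I A :=
  TensorProduct.lift
    { toFun := fun φ =>
        { toFun := fun a => (LinearMap.toMatrix b b φ).map (fun r => r • a)
          map_add' := fun a a' => by ext i j; simp
          map_smul' := fun r a => by ext i j; simp [smul_smul, mul_comm] }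
      map_add' := fun φ ψ => by ext a i j; simp [add_smul]
      map_smul' := fun r φ => by ext a i j; simp [mul_smul] }

@[simp] theorem mx_tmul (A : Type u) [CommRing A] [Algebra k A] (φ : Module.End k T.V) (a : A) (i j : I) :
    mx T b A (φ ⊗ₜ a) i j = LinearMap.toMatrix b b φ i j • a := rfl

omit [Fintype I] [DecidableEq I] in
theorem crd_tmul' (A : Type u) [CommRing A] [Algebra k A] (i : I) (t : T.V) (a : A) :
    K90.crd b A i (t ⊗ₜ[k] a) = b.coord i t • a := by
  simp [K90.crd]

/-- `mx` computes the action on `T ⊗ A` -/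
theorem crd_evR (A : Type u) [CommRing A] [Algebra k A] (y : Module.End k T.V ⊗[k] A) (z : T.V ⊗[k] A)
    (i : I) : K90.crd b A i (evR k T.V A y z) = ∑ l, mx T b A y i l * K90.crd b A l z := by
  induction y using TensorProduct.induction_on with
  | zero => simp
  | tmul φ a =>
    induction z using TensorProduct.induction_on with
    | zero => simp
    | tmul t c =>
      simp only [evR_tmul, crd_tmul', mx_tmul]
      have h : b.coord i (φ t) = ∑ l, LinearMap.toMatrix b b φ i l * b.coord l t := by
        have := LinearMap.toMatrix_mulVec_repr b b φ t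
        rw [Module.Basis.coord_apply, ← congrFun this i]
        rfl
      rw [h, Finset.sum_smul]
      refine Finset.sum_congr rfl fun l _ => ?_
      rw [smul_mul_smul_comm]
    | add p q hp hq => simp only [map_add, hp, hq, mul_add, Finset.sum_add_distrib]
  | add p q hp hq =>
    simp only [map_add, LinearMap.add_apply, hp, hq, Matrix.add_apply, add_mul,
      Finset.sum_add_distrib]

/-- **the coaction of `End T` in matrices**: `[ρ φ] R = R [φ]` -/
theorem mx_coact_mul (e : EndStr T) (φ : Module.End k T.V) :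
    mx T b E.O (e.co.coact φ) * rmat T b =
      rmat T b * (LinearMap.toMatrix b b φ).map (algebraMap k E.O) := by
  ext i j
  have h := congrArg (K90.crd b E.O i) (e.spec φ (b j))
  rw [crd_evR] at h
  rw [Matrix.mul_apply]
  refine h.trans ?_
  rw [crd_coact, Matrix.mul_apply]
  refine Finset.sum_congr rfl fun l _ => ?_
  rw [mul_comm, Matrix.map_apply, LinearMap.toMatrix_apply]

/-- `[ρ φ] = R [φ] S(R)` -/
theorem mx_coact (e : EndStr T) (φ : Module.End k T.V) :
    mx T b E.O (e.co.coact φ) =
      rmat T b * (LinearMap.toMatrix b b φ).map (algebraMap k E.O) * smat (k := k) (rmat T b) := by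
  rw [← mx_coact_mul T b e φ, Matrix.mul_assoc, rmat_mul_antipode, Matrix.mul_one]

end RMat

section MatCo

variable {k : Type u} [CommRing k] {E : Gp k} (M : GMod E) {I : Type w} [Fintype I] [DecidableEq I]

/-- the `(i, j)`-entry of an element of `Matrix I I M ⊗ A` -/
def ent (M A : Type u) [AddCommGroup M] [Module k M] [CommRing A] [Algebra k A] (i j : I) :
    Matrix I I M ⊗[k] A →ₗ[k] M ⊗[k] A :=
  LinearMap.rTensor A
    { toFun := fun X => X i j
      map_add' := fun _ _ => rfl
      map_smul' := fun _ _ => rfl }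

omit [Fintype I] [DecidableEq I] in
@[simp] theorem ent_tmul (M A : Type u) [AddCommGroup M] [Module k M] [CommRing A] [Algebra k A] (i j : I)
    (X : Matrix I I M) (a : A) : ent (k := k) M A i j (X ⊗ₜ a) = X i j ⊗ₜ a := rfl

/-- the matrix with one entry -/
def sgl (M : Type u) [AddCommGroup M] [Module k M] (i j : I) : M →ₗ[k] Matrix I I M where
  toFun m := Matrix.single i j m
  map_add' a b := Matrix.single_add i j a b
  map_smul' r a := (Matrix.smul_single r i j a).symm

theorem sum_ent (M A : Type u) [AddCommGroup M] [Module k M] [CommRing A] [Algebra k A]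
    (x : Matrix I I M ⊗[k] A) :
    ∑ i, ∑ j, (sgl (k := k) M i j).rTensor A (ent (k := k) M A i j x) = x := by
  induction x using TensorProduct.induction_on with
  | zero => simp
  | tmul X a =>
    simp only [ent_tmul, LinearMap.rTensor_tmul]
    rw [← Finset.sum_congr rfl fun i _ => TensorProduct.sum_tmul _ _ _, ← TensorProduct.sum_tmul]
    congr 1
    exact (Matrix.matrix_eq_sum_single X).symm
  | add x y hx hy =>
    conv_rhs => rw [← hx, ← hy]
    simp only [map_add, Finset.sum_add_distrib]

theorem ent_ext {M A : Type u} [AddCommGroup M] [Module k M] [CommRing A] [Algebra k A]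
    {x y : Matrix I I M ⊗[k] A} (h : ∀ i j, ent (k := k) M A i j x = ent (k := k) M A i j y) : x = y := by
  rw [← sum_ent M A x, ← sum_ent M A y]
  exact Finset.sum_congr rfl fun i _ => Finset.sum_congr rfl fun j _ => by rw [h]

/-- The comodule structure `c` on `Matrix I I M` is `X ↦ R (ρ X) S(R)`. -/
def IsMatCo (R : Matrix I I E.O) (c : Comod k E.O (Matrix I I M.V)) : Prop :=
  ∀ (X : Matrix I I M.V) (i j : I), ent (k := k) M.V E.O i j (c.coact X) =
    ∑ p, ∑ q, rmul k M.V E.O (M.co.coact (X p q) ⊗ₜ[k] (R i p * HopfAlgebra.antipode k (R q j)))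

end MatCo

section Kap

variable {k : Type u} [CommRing k] {E : Gp k} (M : GMod E) {I I' : Type} [Fintype I] [DecidableEq I]
  [Fintype I'] [DecidableEq I'] (T : GMod E) (b : Module.Basis I' k T.V)

/-- `X ⊗ φ ↦ X ⊗ₖ [φ]` -/
def kap : Matrix I I M.V ⊗[k] Module.End k T.V →ₗ[k] Matrix (I × I') (I × I') M.V :=
  TensorProduct.lift (LinearMap.mk₂ k
    (fun X φ => Matrix.of fun i j => LinearMap.toMatrix b b φ i.2 j.2 • X i.1 j.1)
    (fun X Y φ => Matrix.ext fun i j => smul_add _ _ _)
    (fun r X φ => Matrix.ext fun i j => smul_comm _ _ _)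
    (fun X φ ψ => Matrix.ext fun i j => by
      rw [Matrix.add_apply, Matrix.of_apply, Matrix.of_apply, Matrix.of_apply, map_add,
        Matrix.add_apply, add_smul])
    (fun r X φ => Matrix.ext fun i j => by
      rw [Matrix.smul_apply, Matrix.of_apply, Matrix.of_apply, map_smul, Matrix.smul_apply,
        smul_assoc]))

theorem kap_tmul (X : Matrix I I M.V) (φ : Module.End k T.V) (i j : I × I') :
    kap M T b (X ⊗ₜ φ) i j = LinearMap.toMatrix b b φ i.2 j.2 • X i.1 j.1 := rfl

theorem kap_one (X : Matrix I I M.V) (i j : I × I') :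
    kap M T b (X ⊗ₜ (1 : Module.End k T.V)) i j = if i.2 = j.2 then X i.1 j.1 else 0 := by
  rw [kap_tmul]
  have h : LinearMap.toMatrix b b (1 : Module.End k T.V) = 1 := LinearMap.toMatrix_one b
  rw [h, Matrix.one_apply]
  split_ifs <;> simp

/-- the entries of the image of `J y w` -/
theorem ent_kap (y : Matrix I I M.V ⊗[k] E.O) (w : Module.End k T.V ⊗[k] E.O) (i j : I × I') :
    ent (k := k) M.V E.O i j ((kap M T b).rTensor E.O (J y w)) =
      rmul k M.V E.O (ent (k := k) M.V E.O i.1 j.1 y ⊗ₜ mx T b E.O w i.2 j.2) := by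
  induction y using TensorProduct.induction_on with
  | zero => simp [J_zero_left]
  | tmul X a =>
    induction w using TensorProduct.induction_on with
    | zero => simp [J_zero_right]
    | tmul φ c =>
      rw [J_tmul, LinearMap.rTensor_tmul, ent_tmul, kap_tmul, ent_tmul, mx_tmul, rmul_tmul,
        mul_smul_comm, TensorProduct.smul_tmul]
    | add p q hp hq =>
      simp only [map_add, J_add_right, hp, hq, Matrix.add_apply, tmul_add]
  | add p q hp hq =>
    simp only [map_add, J_add_left, hp, hq, add_tmul]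

omit [Fintype I] [DecidableEq I] [Fintype I'] [DecidableEq I'] in
theorem coact_smul_tmul (r : k) (m : M.V) (a : E.O) :
    rmul k M.V E.O (M.co.coact (r • m) ⊗ₜ[k] a) = rmul k M.V E.O (M.co.coact m ⊗ₜ[k] (algebraMap k E.O r * a)) := by
  rw [map_smul, TensorProduct.smul_tmul, Algebra.smul_def]

/-- the term for fixed `p`, `q` -/
theorem kap_term (c : Matrix I' I' k) (S : Matrix I' I' E.O) (m : M.V) (a a' : E.O) (i j : I') :
    ∑ p, ∑ q, rmul k M.V E.O (M.co.coact (c p q • m) ⊗ₜ[k]
        ((a * S i p) * HopfAlgebra.antipode k (a' * S q j))) =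
      rmul k M.V E.O (rmul k M.V E.O (M.co.coact m ⊗ₜ[k] (a * HopfAlgebra.antipode k a')) ⊗ₜ[k]
        (S * c.map (algebraMap k E.O) * smat (k := k) S) i j) := by
  rw [rmul_rmul, Matrix.mul_apply]
  simp only [Matrix.mul_apply, Matrix.map_apply, Finset.sum_mul, Finset.mul_sum, tmul_sum, map_sum]
  rw [Finset.sum_comm]
  refine Finset.sum_congr rfl fun q _ => Finset.sum_congr rfl fun p _ => ?_
  rw [coact_smul_tmul, HopfAlgebra.antipode_mul_distrib]
  congr 2
  ring

/-- **(d)** `Matrix I I M ⊗ End T → Matrix (I × I') (I × I') M` is a comodule map -/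
theorem kap_hom (e : EndStr T) (R : Matrix I I E.O) (c1 : Comod k E.O (Matrix I I M.V))
    (h1 : IsMatCo M R c1) (R2 : Matrix (I × I') (I × I') E.O)
    (hR2 : ∀ i j, R2 i j = R i.1 j.1 * rmat T b i.2 j.2)
    (c2 : Comod k E.O (Matrix (I × I') (I × I') M.V)) (h2 : IsMatCo M R2 c2) :
    @Hoch.IsComodHom k _ E.O _ _ _ (Matrix I I M.V ⊗[k] Module.End k T.V) _ _
      (ComodTens.Comod.tensor c1 e.co) (Matrix (I × I') (I × I') M.V) _ _ c2 (kap M T b) := by
  refine TensorProduct.ext' fun X φ => ?_
  refine ent_ext fun i j => ?_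
  refine (h2 _ i j).trans ?_
  refine Eq.trans ?_ (ent_kap M T b (c1.coact X) (e.co.coact φ) i j).symm
  rw [h1, mx_coact, TensorProduct.sum_tmul, map_sum, Fintype.sum_prod_type]
  refine Finset.sum_congr rfl fun p _ => ?_
  rw [TensorProduct.sum_tmul, map_sum, Finset.sum_congr rfl fun _ _ => Fintype.sum_prod_type _,
    Finset.sum_comm]
  refine Finset.sum_congr rfl fun q _ => ?_
  rw [← kap_term]
  refine Finset.sum_congr rfl fun p' _ => Finset.sum_congr rfl fun q' _ => ?_
  rw [hR2, hR2, kap_tmul]

end Kap

end Groth.Agent.ResProp.EF.K226
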