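import Groth.Agent.ResProp.EF.Grp
import Groth.Agent.Hoch.K915.DSq
import Groth.Agent.HopfRep.K187.HochMap
import Groth.Agent.S3032
import Mathlib.LinearAlgebra.FreeModule.PID
import Mathlib.RingTheory.Flat.Basic
import Mathlib.Tactic

/-!
# S16912, block G2a (980, 1.1 and 1.2): `SerreCover` and `LiftClass2`

`k` a principal ideal domain, `E` a group over `k` (`O(E)` free over `k`).
Proof (helper413): `π : F → M` onto with `F` free, `N ⊆ Ind F = F ⊗ O` the preimage of `ρ(M) ⊆ Ind M`,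
`p : N → M` the comodule map `ρ⁻¹ ∘ (π ⊗ 1)`.  For a 2-cocycle `c` of `M` and a lift `c̃` of `c` to
`F ⊗ O ⊗ O = C¹(Ind F)`, `d c̃` lies in `C²(N)` and `p (d c̃) = c`.
-/

set_option autoImplicit false

universe u

open TensorProduct HopfRep

noncomputable section

namespace Groth.Agent.ResProp.EF.K226

section Sub

variable {k : Type u} [CommRing k] {A : Type u} [AddCommGroup A] [Module k A] [Coalgebra k A]
variable {V : Type u} [AddCommGroup V] [Module k V] [Comod k A V] [Module.Flat k A]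

/-- The coaction on a subcomodule. -/
def subCoact (W : Submodule k V) (hW : IsSubcomod (k := k) (A := A) W) :
    W →ₗ[k] W ⊗[k] A :=
  (LinearEquiv.ofInjective (W.subtype.rTensor A)
    (Module.Flat.rTensor_preserves_injective_linearMap _ W.injective_subtype)).symm.toLinearMap ∘ₗ
    LinearMap.codRestrict (LinearMap.range (W.subtype.rTensor A))
      (Comod.coact (k := k) (A := A) ∘ₗ W.subtype) (fun w => hW w w.2)

theorem subCoact_spec (W : Submodule k V) (hW : IsSubcomod (k := k) (A := A) W) (w : W) :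
    (W.subtype.rTensor A) (subCoact W hW w) = Comod.coact (k := k) (A := A) (w : V) := by
  have := LinearEquiv.ofInjective_symm_apply (f := W.subtype.rTensor A)
    (h := Module.Flat.rTensor_preserves_injective_linearMap _ W.injective_subtype)
    (LinearMap.codRestrict (LinearMap.range (W.subtype.rTensor A))
      (Comod.coact (k := k) (A := A) ∘ₗ W.subtype) (fun w => hW w w.2) w)
  exact this

/-- The comodule structure on a subcomodule. -/
@[reducible] def sub (W : Submodule k V) (hW : IsSubcomod (k := k) (A := A) W) :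
    Comod k A W where
  coact := subCoact W hW
  coassoc := by
    have hinj : Function.Injective (W.subtype.rTensor (A ⊗[k] A)) :=
      Module.Flat.rTensor_preserves_injective_linearMap _ W.injective_subtype
    ext w
    apply hinj
    have e1 := ComodTens.assoc_rTensor_rTensor (k := k) (A := A) W.subtype
      ((subCoact W hW).rTensor A (subCoact W hW w))
    have e2 := ComodTens.lTensor_rTensor_comm (CoalgebraStruct.comul (R := k) (A := A)) W.subtype
      (subCoact W hW w)
    simp only [LinearMap.comp_apply, LinearEquiv.coe_coe]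
    rw [← e1, ← e2, subCoact_spec, ← LinearMap.rTensor_comp_apply]
    have e3 : (W.subtype.rTensor A) ∘ₗ subCoact W hW = Comod.coact (k := k) (A := A) ∘ₗ W.subtype :=
      LinearMap.ext fun w => subCoact_spec W hW w
    rw [e3, LinearMap.rTensor_comp_apply, subCoact_spec]
    exact LinearMap.congr_fun (Comod.coassoc (k := k) (A := A) (V := V)) (w : V)
  counit_comp := by
    have hinj : Function.Injective (W.subtype.rTensor k) :=
      Module.Flat.rTensor_preserves_injective_linearMap _ W.injective_subtype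
    ext w
    apply hinj
    have e2 := ComodTens.lTensor_rTensor_comm (CoalgebraStruct.counit (R := k) (A := A)) W.subtype
      (subCoact W hW w)
    simp only [LinearMap.comp_apply]
    rw [← e2, subCoact_spec]
    exact LinearMap.congr_fun (Comod.counit_comp (k := k) (A := A) (V := V)) (w : V)

theorem isComodHom_subtype (W : Submodule k V) (hW : IsSubcomod (k := k) (A := A) W) :
    letI := sub W hW
    Hoch.IsComodHom A W.subtype :=
  LinearMap.ext fun w => (subCoact_spec W hW w).symm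

end Sub

section Exact

variable {k : Type u} [CommRing k] {A : Type u} [AddCommGroup A] [Module k A] [Module.Flat k A]
variable {V W M : Type u} [AddCommGroup V] [Module k V] [AddCommGroup W] [Module k W]
  [AddCommGroup M] [Module k M]

/-- `(N → V → W / g(M))` exact, `N = f⁻¹(g(M))`. -/
theorem exact_comap (f : V →ₗ[k] W) (g : M →ₗ[k] W) :
    Function.Exact ((LinearMap.range g).comap f).subtype ((LinearMap.range g).mkQ ∘ₗ f) := by
  intro x
  simp

theorem mem_range_one (f : V →ₗ[k] W) (g : M →ₗ[k] W) (x : V ⊗[k] A) (y : M ⊗[k] A)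
    (h : f.rTensor A x = g.rTensor A y) :
    x ∈ LinearMap.range ((((LinearMap.range g).comap f).subtype).rTensor A) := by
  refine ((Module.Flat.rTensor_exact A (exact_comap f g)) x).1 ?_
  rw [LinearMap.rTensor_comp_apply, h, ← LinearMap.rTensor_comp_apply]
  have : (LinearMap.range g).mkQ ∘ₗ g = 0 := by ext; simp
  rw [this, LinearMap.rTensor_zero, LinearMap.zero_apply]

theorem mem_range_two (f : V →ₗ[k] W) (g : M →ₗ[k] W) (x : (V ⊗[k] A) ⊗[k] A)
    (y : (M ⊗[k] A) ⊗[k] A) (h : (f.rTensor A).rTensor A x = (g.rTensor A).rTensor A y) :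
    x ∈ LinearMap.range (((((LinearMap.range g).comap f).subtype).rTensor A).rTensor A) := by
  refine ((Module.Flat.rTensor_exact A (Module.Flat.rTensor_exact A (exact_comap f g))) x).1 ?_
  rw [LinearMap.rTensor_comp, LinearMap.rTensor_comp_apply, h, ← LinearMap.rTensor_comp_apply,
    ← LinearMap.rTensor_comp]
  have : (LinearMap.range g).mkQ ∘ₗ g = 0 := by ext; simp
  rw [this, LinearMap.rTensor_zero, LinearMap.rTensor_zero, LinearMap.zero_apply]

end Exact


section Diff

variable {k : Type u} [CommRing k] {A : Type u} [CommRing A] [Bialgebra k A]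
variable (M : Type u) [AddCommGroup M] [Module k M] [Comod k A M]

/-- the coaction of `Ind M` on `M ⊗ A` -/
@[reducible] def indC (k : Type u) [CommRing k] (A : Type u) [CommRing A] [Bialgebra k A]
    (P : Type u) [AddCommGroup P] [Module k P] : Comod k A (P ⊗[k] A) :=
  (Hoch.Ind.comod k A P : Comod k A (Hoch.Ind k A P))

/-- `d_M^1 + d_{Ind M}^0 = ρ ⊗ 1`. -/
theorem d_one_add :
    (Hoch.d k A M 1 : (M ⊗[k] A) →ₗ[k] (M ⊗[k] A) ⊗[k] A) +
      (@Hoch.d k _ A _ _ (M ⊗[k] A) _ _ (indC k A M) 0) =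
      (Comod.coact (k := k) (A := A) (V := M)).rTensor A := by
  refine TensorProduct.ext' fun m a => ?_
  have h1 : (Hoch.d k A M 1 : (M ⊗[k] A) →ₗ[k] (M ⊗[k] A) ⊗[k] A) (m ⊗ₜ a) =
      (Comod.coact (k := k) (A := A) m - m ⊗ₜ[k] (1 : A)) ⊗ₜ[k] a +
        ((-1 : k) ^ 1) • (TensorProduct.assoc k M A A).symm
          (m ⊗ₜ (Coalgebra.comul (R := k) a - a ⊗ₜ 1 - 1 ⊗ₜ a)) := rfl
  have h2 : (@Hoch.d k _ A _ _ (M ⊗[k] A) _ _ (indC k A M) 0 :
      (M ⊗[k] A) →ₗ[k] (M ⊗[k] A) ⊗[k] A) (m ⊗ₜ a) =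
      (TensorProduct.assoc k M A A).symm (m ⊗ₜ Coalgebra.comul (R := k) a) -
        (m ⊗ₜ[k] a) ⊗ₜ[k] (1 : A) := rfl
  have e : ∀ y : (M ⊗[k] A) ⊗[k] A, ((-1 : k) ^ 1) • y = -y := fun y => by
    rw [pow_one]
    exact (neg_smul (1 : k) y).trans (congrArg Neg.neg (one_smul k y))
  rw [LinearMap.add_apply, h1, h2, LinearMap.rTensor_tmul, e]
  simp only [TensorProduct.tmul_sub, TensorProduct.sub_tmul, map_sub, TensorProduct.assoc_symm_tmul]
  abel

/-- `d_M^2 + d_{Ind M}^1 = (ρ ⊗ 1) ⊗ 1`. -/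
theorem d_two_add (c : (M ⊗[k] A) ⊗[k] A) :
    (Hoch.d k A M 2 : ((M ⊗[k] A) ⊗[k] A) →ₗ[k] ((M ⊗[k] A) ⊗[k] A) ⊗[k] A) c +
      (@Hoch.d k _ A _ _ (M ⊗[k] A) _ _ (indC k A M) 1 :
        ((M ⊗[k] A) ⊗[k] A) →ₗ[k] ((M ⊗[k] A) ⊗[k] A) ⊗[k] A) c =
      ((Comod.coact (k := k) (A := A) (V := M)).rTensor A).rTensor A c := by
  have h1 : (Hoch.d k A M 2 : ((M ⊗[k] A) ⊗[k] A) →ₗ[k] ((M ⊗[k] A) ⊗[k] A) ⊗[k] A) c =
      (Hoch.d k A M 1 : (M ⊗[k] A) →ₗ[k] (M ⊗[k] A) ⊗[k] A).rTensor A c +
      ((-1 : k) ^ 2) • Hoch.tail k A (M ⊗[k] A) c := rfl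
  have h2 : (@Hoch.d k _ A _ _ (M ⊗[k] A) _ _ (indC k A M) 1 :
        ((M ⊗[k] A) ⊗[k] A) →ₗ[k] ((M ⊗[k] A) ⊗[k] A) ⊗[k] A) c =
      (@Hoch.d k _ A _ _ (M ⊗[k] A) _ _ (indC k A M) 0 :
        (M ⊗[k] A) →ₗ[k] (M ⊗[k] A) ⊗[k] A).rTensor A c +
      ((-1 : k) ^ 1) • Hoch.tail k A (M ⊗[k] A) c := rfl
  have h3 := congrArg (LinearMap.rTensor A) (d_one_add (k := k) (A := A) M)
  have h4 := LinearMap.congr_fun h3 c
  have e : ∀ y : ((M ⊗[k] A) ⊗[k] A) ⊗[k] A, ((-1 : k) ^ 1) • y = -y := fun y => by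
    rw [pow_one]
    exact (neg_smul (1 : k) y).trans (congrArg Neg.neg (one_smul k y))
  have e2 : ∀ y : ((M ⊗[k] A) ⊗[k] A) ⊗[k] A, ((-1 : k) ^ 2) • y = y := fun y => by
    rw [neg_one_sq, one_smul]
  rw [← h4, h1, h2, LinearMap.rTensor_add, LinearMap.add_apply, e, e2]
  abel

end Diff

section Main

variable {k : Type u} [CommRing k] {A : Type u} [CommRing A] [Bialgebra k A]

theorem indC_map {P Q : Type u} [AddCommGroup P] [Module k P] [AddCommGroup Q] [Module k Q]
    (f : P →ₗ[k] Q) :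
    @Hoch.IsComodHom k _ A _ _ _ (P ⊗[k] A) _ _ (indC k A P) (Q ⊗[k] A) _ _ (indC k A Q)
      (f.rTensor A) := by
  refine TensorProduct.ext' fun p a => ?_
  have h : ∀ w : A ⊗[k] A, ((f.rTensor A).rTensor A) ((TensorProduct.assoc k P A A).symm (p ⊗ₜ[k] w)) =
      (TensorProduct.assoc k Q A A).symm (f p ⊗ₜ[k] w) := by
    intro w
    induction w using TensorProduct.induction_on with
    | zero => simp
    | add z₁ z₂ h₁ h₂ => simp only [map_add, TensorProduct.tmul_add, h₁, h₂]
    | tmul a b => simp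
  exact (h (Coalgebra.comul (R := k) a)).symm

variable {M : Type u} [AddCommGroup M] [Module k M] [Comod k A M]

theorem coact_inj : Function.Injective (Comod.coact (k := k) (A := A) (V := M)) := by
  intro x y h
  have h1 := LinearMap.congr_fun (Comod.counit_comp (k := k) (A := A) (V := M)) x
  have h2 := LinearMap.congr_fun (Comod.counit_comp (k := k) (A := A) (V := M)) y
  simp only [LinearMap.comp_apply] at h1 h2
  rw [h, h2] at h1
  have := congrArg (TensorProduct.rid k M) h1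
  simpa using this.symm

theorem rho_map :
    @Hoch.IsComodHom k _ A _ _ _ M _ _ _ (M ⊗[k] A) _ _ (indC k A M)
      (Comod.coact (k := k) (A := A) (V := M)) := by
  refine LinearMap.ext fun m => ?_
  have h := LinearMap.congr_fun (Comod.coassoc (k := k) (A := A) (V := M)) m
  change (TensorProduct.assoc k M A A).symm
    ((Coalgebra.comul (R := k) (A := A)).lTensor M (Comod.coact (k := k) (A := A) m)) =
    (Comod.coact (k := k) (A := A) (V := M)).rTensor A (Comod.coact (k := k) (A := A) m)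
  rw [LinearEquiv.symm_apply_eq]
  exact h.symm

variable {F : Type u} [AddCommGroup F] [Module k F] (π : F →ₗ[k] M)

/-- the preimage `N` of `ρ(M)` in `F ⊗ A` -/
def NN : Submodule k (F ⊗[k] A) :=
  (LinearMap.range (Comod.coact (k := k) (A := A) (V := M))).comap (π.rTensor A)

variable [Module.Flat k A]

theorem NN_subcomod : @IsSubcomod k A _ _ _ _ (F ⊗[k] A) _ _ (indC k A F) (NN (A := A) π) := by
  intro x hx
  obtain ⟨m, hm⟩ := hx
  have h1 := LinearMap.congr_fun (indC_map (k := k) (A := A) π) x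
  have h2 := LinearMap.congr_fun (rho_map (k := k) (A := A) (M := M)) m
  rw [LinearMap.comp_apply, LinearMap.comp_apply] at h1 h2
  rw [← hm, h2] at h1
  exact mem_range_one (A := A) (π.rTensor A) (Comod.coact (k := k) (A := A) (V := M)) _ _ h1.symm

/-- the comodule structure on `N` -/
@[reducible] def nC : Comod k A (NN (A := A) π) :=
  @sub k _ A _ _ _ (F ⊗[k] A) _ _ (indC k A F) _ (NN (A := A) π) (NN_subcomod π)

/-- `p : N → M` -/
def pp : NN (A := A) π →ₗ[k] M :=
  (LinearEquiv.ofInjective (Comod.coact (k := k) (A := A) (V := M)) coact_inj).symm.toLinearMap ∘ₗ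
    ((π.rTensor A).domRestrict (NN (A := A) π)).codRestrict _ (fun x => x.2)

omit [Module.Flat k A] in
theorem rho_pp (x : NN (A := A) π) :
    Comod.coact (k := k) (A := A) (pp π x) = π.rTensor A (x : F ⊗[k] A) := by
  have := LinearEquiv.ofInjective_symm_apply (f := Comod.coact (k := k) (A := A) (V := M))
    (h := coact_inj)
    (((π.rTensor A).domRestrict (NN (A := A) π)).codRestrict _ (fun x => x.2) x)
  exact this

theorem pp_surj (hπ : Function.Surjective π) : Function.Surjective (pp (A := A) π) := by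
  intro m
  obtain ⟨x, hx⟩ := LinearMap.rTensor_surjective A hπ (Comod.coact (k := k) (A := A) m)
  refine ⟨⟨x, m, hx.symm⟩, coact_inj (k := k) (A := A) ?_⟩
  rw [rho_pp]
  exact hx

theorem pp_hom : @Hoch.IsComodHom k _ A _ _ _ (NN (A := A) π) _ _ (nC π) M _ _ _ (pp π) := by
  refine LinearMap.ext fun x => ?_
  have hinj : Function.Injective ((Comod.coact (k := k) (A := A) (V := M)).rTensor A) :=
    Module.Flat.rTensor_preserves_injective_linearMap _ coact_inj
  apply hinj
  have h1 := LinearMap.congr_fun (indC_map (k := k) (A := A) π) (x : F ⊗[k] A)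
  have h2 := LinearMap.congr_fun (rho_map (k := k) (A := A) (M := M)) (pp π x)
  have h3 : (Comod.coact (k := k) (A := A) (V := M)) ∘ₗ pp π =
      π.rTensor A ∘ₗ (NN (A := A) π).subtype := LinearMap.ext fun x => rho_pp π x
  have h4 := @subCoact_spec k _ A _ _ _ (F ⊗[k] A) _ _ (indC k A F) _ (NN (A := A) π)
    (NN_subcomod π) x
  rw [LinearMap.comp_apply, LinearMap.comp_apply] at h1 h2 ⊢
  rw [← h2, rho_pp, h1, ← LinearMap.rTensor_comp_apply, h3,
    LinearMap.rTensor_comp_apply]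
  exact congrArg _ h4.symm

end Main

section Fin

variable {k : Type u} [CommRing k] {A : Type u} [AddCommGroup A] [Module k A]
variable {N : Type u} [AddCommGroup N] [Module k N]

theorem range_mono_one {S T : Submodule k N} (h : S ≤ T) :
    LinearMap.range (S.subtype.rTensor A) ≤ LinearMap.range (T.subtype.rTensor A) := by
  have : S.subtype = T.subtype ∘ₗ Submodule.inclusion h := rfl
  rw [this, LinearMap.rTensor_comp]
  exact LinearMap.range_comp_le_range _ _

theorem range_mono_two {S T : Submodule k N} (h : S ≤ T) :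
    LinearMap.range ((S.subtype.rTensor A).rTensor A) ≤
      LinearMap.range ((T.subtype.rTensor A).rTensor A) := by
  have : S.subtype = T.subtype ∘ₗ Submodule.inclusion h := rfl
  rw [this, LinearMap.rTensor_comp, LinearMap.rTensor_comp]
  exact LinearMap.range_comp_le_range _ _

theorem exists_fg_one (x : N ⊗[k] A) :
    ∃ S : Submodule k N, S.FG ∧ x ∈ LinearMap.range (S.subtype.rTensor A) := by
  induction x using TensorProduct.induction_on with
  | zero => exact ⟨⊥, Submodule.fg_bot, Submodule.zero_mem _⟩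
  | tmul n a =>
    exact ⟨Submodule.span k {n}, Submodule.fg_span_singleton n,
      ⟨⟨n, Submodule.mem_span_singleton_self n⟩ ⊗ₜ a, rfl⟩⟩
  | add x y hx hy =>
    obtain ⟨S, hS, hxS⟩ := hx
    obtain ⟨T, hT, hyT⟩ := hy
    exact ⟨S ⊔ T, hS.sup hT, Submodule.add_mem _ (range_mono_one le_sup_left hxS)
      (range_mono_one le_sup_right hyT)⟩

theorem exists_fg_two (x : (N ⊗[k] A) ⊗[k] A) :
    ∃ S : Submodule k N, S.FG ∧ x ∈ LinearMap.range ((S.subtype.rTensor A).rTensor A) := by
  induction x using TensorProduct.induction_on with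
  | zero => exact ⟨⊥, Submodule.fg_bot, Submodule.zero_mem _⟩
  | tmul n a =>
    obtain ⟨S, hS, y, hy⟩ := exists_fg_one n
    exact ⟨S, hS, ⟨y ⊗ₜ a, by rw [LinearMap.rTensor_tmul, hy]⟩⟩
  | add x y hx hy =>
    obtain ⟨S, hS, hxS⟩ := hx
    obtain ⟨T, hT, hyT⟩ := hy
    exact ⟨S ⊔ T, hS.sup hT, Submodule.add_mem _ (range_mono_two le_sup_left hxS)
      (range_mono_two le_sup_right hyT)⟩

end Fin

section Result

variable {k : Type u} [CommRing k]

/-- the sub-`E`-module -/
abbrev subG {E : Grp.Gp k} (N : Grp.GMod E) (W : Submodule k N.V)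
    (hW : IsSubcomod (k := k) (A := E.O) W) : Grp.GMod E where
  V := W
  co := sub W hW

theorem subG_hom {E : Grp.Gp k} (N : Grp.GMod E) (W : Submodule k N.V)
    (hW : IsSubcomod (k := k) (A := E.O) W) :
    @Hoch.IsComodHom k _ E.O _ _ _ (subG N W hW).V _ _ (subG N W hW).co N.V _ _ N.co W.subtype :=
  isComodHom_subtype W hW

/-- the `E`-module `N` attached to `π : F → M` -/
abbrev nG {E : Grp.Gp k} (M : Grp.GMod E) {F : Type u} [AddCommGroup F] [Module k F]
    (π : F →ₗ[k] M.V) : Grp.GMod E where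
  V := NN (A := E.O) π
  co := nC (A := E.O) π

theorem pp_homG {E : Grp.Gp k} (M : Grp.GMod E) {F : Type u} [AddCommGroup F] [Module k F]
    (π : F →ₗ[k] M.V) :
    @Hoch.IsComodHom k _ E.O _ _ _ (nG M π).V _ _ (nG M π).co M.V _ _ M.co (pp (A := E.O) π) :=
  pp_hom π

theorem comp_hom {E : Grp.Gp k} {X Y Z : Grp.GMod E} {f : X.V →ₗ[k] Y.V} {g : Y.V →ₗ[k] Z.V}
    (hf : Hoch.IsComodHom E.O f) (hg : Hoch.IsComodHom E.O g) : Hoch.IsComodHom E.O (g ∘ₗ f) := by
  refine LinearMap.ext fun x => ?_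
  have h1 := LinearMap.congr_fun hf x
  have h2 := LinearMap.congr_fun hg (f x)
  simp only [LinearMap.comp_apply] at h1 h2 ⊢
  rw [h2, h1, ← LinearMap.rTensor_comp_apply]

theorem free_of_fg [IsDomain k] [IsPrincipalIdealRing k] {X : Type u} [AddCommGroup X] [Module k X]
    [Module.IsTorsionFree k X] (W : Submodule k X) (hW : W.FG) : Module.Free k W := by
  have : Module.Finite k W := Module.Finite.iff_fg.2 hW
  infer_instance

theorem exists_subG [IsNoetherianRing k] {E : Grp.Gp k} (N : Grp.GMod E) (S : Submodule k N.V)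
    (hS : S.FG) : ∃ W : Submodule k N.V, IsSubcomod (k := k) (A := E.O) W ∧ S ≤ W ∧ W.FG :=
  Groth.Agent.S3032.result k E.O N.V S hS

/-- finite number of elements of a torsion-free module `N`, a morphism `p : N → M`: covered by a finite free
`E`-module -/
theorem cover_aux [IsDomain k] [IsPrincipalIdealRing k] {E : Grp.Gp k} (N M : Grp.GMod E)
    [Module.IsTorsionFree k N.V] (p : N.V →ₗ[k] M.V) (hp : Hoch.IsComodHom E.O p)
    (hs : Function.Surjective p) (hM : Module.Finite k M.V) :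
    ∃ (L : Grp.GMod E) (_ : Module.Free k L.V) (_ : Module.Finite k L.V)
    (q : L.V →ₗ[k] M.V), Hoch.IsComodHom E.O q ∧ Function.Surjective q := by
  obtain ⟨s, hs'⟩ := hM.fg_top
  choose g hg using hs
  obtain ⟨W, hW, hSW, hWf⟩ := exists_subG N
    (Submodule.span k (g '' (s : Set M.V))) (Submodule.fg_span (s.finite_toSet.image g))
  refine ⟨subG N W hW, free_of_fg W hWf, Module.Finite.iff_fg.2 hWf,
    p ∘ₗ W.subtype, comp_hom (subG_hom N W hW) hp, ?_⟩
  have : (⊤ : Submodule k M.V) ≤ LinearMap.range (p ∘ₗ W.subtype) := by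
    rw [← hs', Submodule.span_le]
    intro m hm
    exact ⟨⟨g m, hSW (Submodule.subset_span ⟨m, hm, rfl⟩)⟩, hg m⟩
  exact LinearMap.range_eq_top.1 (top_le_iff.1 this)

theorem cmap_eq {E : Grp.Gp k} (X Y : Grp.GMod E) (f : X.V →ₗ[k] Y.V) (n : ℕ) :
    Grp.cmap X Y f n = K187.HochMap.map k E.O f n := by
  induction n with
  | zero => rfl
  | succ n ih =>
    change (Grp.cmap X Y f n).rTensor E.O = (K187.HochMap.map k E.O f n).rTensor E.O
    rw [ih]

/-- naturality of the differential -/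
theorem d_cmap {E : Grp.Gp k} (X Y : Grp.GMod E) (f : X.V →ₗ[k] Y.V)
    (hf : Hoch.IsComodHom E.O f) (n : ℕ) (x : X.C n) :
    Y.d n (Grp.cmap X Y f n x) = Grp.cmap X Y f (n + 1) (X.d n x) := by
  rw [cmap_eq, cmap_eq]
  exact K187.HochMap.d_map_apply k E.O hf n x

theorem dd {E : Grp.Gp k} (X : Grp.GMod E) (n : ℕ) (x : X.C n) : X.d (n + 1) (X.d n x) = 0 :=
  K915.HochDSq.dd_apply k E.O X.V n x

theorem cmap_comp {E : Grp.Gp k} (X Y Z : Grp.GMod E) (f : X.V →ₗ[k] Y.V) (g : Y.V →ₗ[k] Z.V)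
    (n : ℕ) (x : X.C n) : Grp.cmap Y Z g n (Grp.cmap X Y f n x) = Grp.cmap X Z (g ∘ₗ f) n x := by
  rw [cmap_eq, cmap_eq, cmap_eq, K187.HochMap.map_comp]
  rfl

theorem cmap_inj {E : Grp.Gp k} (X Y : Grp.GMod E) (f : X.V →ₗ[k] Y.V)
    (hf : Function.Injective f) (n : ℕ) : Function.Injective (Grp.cmap X Y f n) := by
  induction n with
  | zero => exact hf
  | succ n ih => exact Module.Flat.rTensor_preserves_injective_linearMap _ ih

/-- a 2-cocycle of the torsion-free module `N` comes from a finite free `E`-submodule -/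
theorem lift_aux [IsDomain k] [IsPrincipalIdealRing k] {E : Grp.Gp k} (N M : Grp.GMod E)
    [Module.IsTorsionFree k N.V] (p : N.V →ₗ[k] M.V) (hp : Hoch.IsComodHom E.O p)
    (c : M.C 2) (w : N.C 2) (hw : N.d 2 w = 0) (hwc : Grp.cmap N M p 2 w = c) :
    ∃ (V : Grp.GMod E) (_ : Module.Free k V.V) (_ : Module.Finite k V.V)
    (f : V.V →ₗ[k] M.V) (_ : Hoch.IsComodHom E.O f) (κ : V.C 2), V.d 2 κ = 0 ∧
      Grp.IsCob M 1 (c - Grp.cmap V M f 2 κ) := by
  obtain ⟨S, hS, hwS⟩ := exists_fg_two (k := k) (A := E.O) (N := N.V) w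
  obtain ⟨W, hW, hSW, hWf⟩ := exists_subG N S hS
  obtain ⟨κ, hκ⟩ := range_mono_two hSW hwS
  have hκ' : Grp.cmap (subG N W hW) N W.subtype 2 κ = w := hκ
  refine ⟨subG N W hW, free_of_fg W hWf, Module.Finite.iff_fg.2 hWf,
    p ∘ₗ W.subtype, comp_hom (subG_hom N W hW) hp, κ,
    cmap_inj (subG N W hW) N W.subtype W.injective_subtype 3 ?_, 0, ?_⟩
  · rw [← d_cmap _ _ _ (subG_hom N W hW), hκ', hw, map_zero]
  · rw [← cmap_comp (subG N W hW) N M W.subtype p, hκ', hwc, sub_self, map_zero]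

theorem torsionFree_nG [IsDomain k] {E : Grp.Gp k} (M : Grp.GMod E) {F : Type u} [AddCommGroup F]
    [Module k F] [Module.Free k F] (π : F →ₗ[k] M.V) : Module.IsTorsionFree k (nG M π).V :=
  inferInstanceAs (Module.IsTorsionFree k (NN (A := E.O) π))

variable [IsDomain k] [IsPrincipalIdealRing k]

/-- 980, 1.1 (Serre) -/
theorem serreCover (E : Grp.Gp k) : Grp.SerreCover E := by
  intro M hM
  let π : (M.V →₀ k) →ₗ[k] M.V := Finsupp.linearCombination k (id : M.V → M.V)
  have hπ : Function.Surjective π := fun m => ⟨Finsupp.single m 1, by simp [π]⟩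
  have := torsionFree_nG M π
  exact cover_aux (nG M π) M (pp (A := E.O) π) (pp_homG M π) (pp_surj (A := E.O) π hπ) hM

/-- the induced module -/
abbrev indG (E : Grp.Gp k) (P : Type u) [AddCommGroup P] [Module k P] : Grp.GMod E where
  V := P ⊗[k] E.O
  co := indC k E.O P

omit [IsDomain k] [IsPrincipalIdealRing k] in
/-- the cocycle `w` of `N` over the cocycle `c` of `M` -/
theorem exists_w {E : Grp.Gp k} (M : Grp.GMod E) {F : Type u} [AddCommGroup F]
    [Module k F] (π : F →ₗ[k] M.V) (hπ : Function.Surjective π) (c : M.C 2) (hc : M.d 2 c = 0) :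
    ∃ w : (nG M π).C 2, (nG M π).d 2 w = 0 ∧ Grp.cmap (nG M π) M (pp (A := E.O) π) 2 w = c := by
  obtain ⟨z, hz⟩ : ∃ z : (indG E F).C 1,
      Grp.cmap (indG E F) (indG E M.V) (π.rTensor E.O) 1 z = (c : (indG E M.V).C 1) :=
    LinearMap.rTensor_surjective E.O (LinearMap.rTensor_surjective E.O hπ) c
  have hπm : @Hoch.IsComodHom k _ E.O _ _ _ (indG E F).V _ _ (indG E F).co (indG E M.V).V _ _
      (indG E M.V).co (π.rTensor E.O) := indC_map π
  have h1 := d_cmap (indG E F) (indG E M.V) (π.rTensor E.O) hπm 1 z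
  rw [hz] at h1
  have h2 := d_two_add (k := k) (A := E.O) M.V c
  have hc' : (Hoch.d k E.O M.V 2 : ((M.V ⊗[k] E.O) ⊗[k] E.O) →ₗ[k]
    ((M.V ⊗[k] E.O) ⊗[k] E.O) ⊗[k] E.O) c = 0 := hc
  rw [hc', zero_add] at h2
  have h3 : ((π.rTensor E.O).rTensor E.O).rTensor E.O ((indG E F).d 1 z) =
      ((Comod.coact (k := k) (A := E.O) (V := M.V)).rTensor E.O).rTensor E.O c := h1.symm.trans h2
  obtain ⟨w, hw'⟩ : ∃ w : (nG M π).C 2,
      Grp.cmap (nG M π) (indG E F) (NN (A := E.O) π).subtype 2 w = (indG E F).d 1 z :=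
    mem_range_two (A := E.O) (π.rTensor E.O)
      (Comod.coact (k := k) (A := E.O) (V := M.V)) _ _ h3
  have hsub : @Hoch.IsComodHom k _ E.O _ _ _ (nG M π).V _ _ (nG M π).co (indG E F).V _ _
      (indG E F).co (NN (A := E.O) π).subtype :=
    @isComodHom_subtype k _ E.O _ _ _ (F ⊗[k] E.O) _ _ (indC k E.O F) _ (NN (A := E.O) π)
      (NN_subcomod π)
  refine ⟨w, ?_, ?_⟩
  · apply cmap_inj (nG M π) (indG E F) (NN (A := E.O) π).subtype (Submodule.injective_subtype _) 3
    rw [← d_cmap (nG M π) (indG E F) _ hsub, hw', dd, map_zero]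
  · apply cmap_inj M (indG E M.V) (Comod.coact (k := k) (A := E.O) (V := M.V)) coact_inj 2
    rw [cmap_comp (nG M π) M (indG E M.V)]
    have h4 : (Comod.coact (k := k) (A := E.O) (V := M.V)) ∘ₗ pp (A := E.O) π =
      π.rTensor E.O ∘ₗ (NN (A := E.O) π).subtype := LinearMap.ext fun x => rho_pp π x
    have h5 : Grp.cmap (nG M π) (indG E M.V)
        ((Comod.coact (k := k) (A := E.O) (V := M.V)) ∘ₗ pp (A := E.O) π) 2 w =
        Grp.cmap (nG M π) (indG E M.V) (π.rTensor E.O ∘ₗ (NN (A := E.O) π).subtype) 2 w :=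
      congrArg (fun f => Grp.cmap (nG M π) (indG E M.V) f 2 w) h4
    rw [h5]
    have h6 := cmap_comp (nG M π) (indG E F) (indG E M.V) (NN (A := E.O) π).subtype
      (π.rTensor E.O) 2 w
    rw [← h6, hw']
    exact h3

/-- 980, 1.2 -/
theorem liftClass2 (E : Grp.Gp k) : Grp.LiftClass2 E := by
  intro M c hc
  let π : (M.V →₀ k) →ₗ[k] M.V := Finsupp.linearCombination k (id : M.V → M.V)
  have hπ : Function.Surjective π := fun m => ⟨Finsupp.single m 1, by simp [π]⟩
  obtain ⟨w, hw, hwc⟩ := exists_w M π hπ c hc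
  have := torsionFree_nG M π
  exact lift_aux (nG M π) M (pp (A := E.O) π) (pp_homG M π) c w hw hwc

end Result

end Groth.Agent.ResProp.EF.K226
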